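import Groth.Agent.CurveHurwitz18.Assemble
import Groth.Agent.CurveHurwitz.Basic
import Groth.Agent.H23.FlatPushPull
import Groth.Agent.H23.FiniteFlatDeg
import Groth.Agent.MorLib.WeightFlat
import Groth.Agent.CurveCover.Line
import Groth.Agent.CurveCohLib.SmoothCurve
import Groth.Agent.S1627
import Groth.Agent.S11571
import Groth.Agent.Lib.CurveRR
import Groth.Agent.FrobTwist.Invariants
import Groth.Agent.SmoothReg.Scheme

/-!
# Covers of the projective line branched over at most two points
-/

set_option autoImplicit false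
set_option linter.style.haveILetI false
set_option linter.unusedSectionVars false
set_option backward.isDefEq.respectTransparency false
set_option backward.isDefEq.respectTransparency.types false
set_option maxHeartbeats 1000000
set_option synthInstance.maxHeartbeats 200000

universe u

open CategoryTheory CategoryTheory.Limits AlgebraicGeometry TopologicalSpace Opposite

noncomputable section

attribute [local instance] Curv2.resAlgebra

namespace Groth.Agent.CurveTwoBranch

open Groth.Agent Groth.Agent.H23.FiniteFibreSum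

variable {X Y : Scheme.{u}} (f : X ⟶ Y)

/-- The ramification index at a point. -/
def ram (x : X) : ℕ :=
  letI := (f.stalkMap x).hom.toAlgebra
  Ideal.ramificationIdx (IsLocalRing.maximalIdeal (X.presheaf.stalk x)) (Y.presheaf.stalk (f x))

theorem ram_eq_fibreLen (x : X) : ram f x = (fibreLen f x).toNat := by
  letI := (f.stalkMap x).hom.toAlgebra
  let S := X.presheaf.stalk x
  let q := IsLocalRing.maximalIdeal S
  let Sq := Localization.AtPrime q
  have hcomap : q.under (Y.presheaf.stalk (f x)) = IsLocalRing.maximalIdeal _ := by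
    haveI : IsLocalHom (algebraMap (Y.presheaf.stalk (f x)) S) := (inferInstance : IsLocalHom (f.stalkMap x).hom)
    exact IsLocalRing.maximalIdeal_comap (algebraMap (Y.presheaf.stalk (f x)) S)
  show Ideal.ramificationIdx q (Y.presheaf.stalk (f x)) = _
  rw [Ideal.ramificationIdx_def, hcomap]
  unfold fibreLen
  refine congrArg ENat.toNat ?_
  have hbij : Function.Bijective (algebraMap S Sq) :=
    (IsLocalization.atUnits S q.primeCompl (S := Sq) fun y hy => by
      by_contra hu
      exact hy ((IsLocalRing.mem_maximalIdeal y).2 hu)).bijective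
  set I : Ideal S := Ideal.map (f.stalkMap x).hom (IsLocalRing.maximalIdeal (Y.presheaf.stalk (f x)))
  have hmap : Ideal.map (algebraMap (Y.presheaf.stalk (f x)) Sq) (IsLocalRing.maximalIdeal _) =
      I.map (algebraMap S Sq) := by
    rw [IsScalarTower.algebraMap_eq (Y.presheaf.stalk (f x)) S Sq, ← Ideal.map_map]
    rfl
  rw [hmap, ← Module.length_eq_of_surjective (S := S) (R := Sq) (M := Sq ⧸ I.map (algebraMap S Sq)) hbij.2]
  refine (LinearEquiv.ofBijective (Submodule.mapQ I
    ((I.map (algebraMap S Sq)).restrictScalars S) (Algebra.linearMap S Sq)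
      fun a ha => Ideal.mem_map_of_mem _ ha) ⟨?_, ?_⟩).length_eq.symm
  · rw [← LinearMap.ker_eq_bot, Submodule.ker_mapQ, ← LinearMap.le_ker_iff_map, Submodule.ker_mkQ]
    intro a ha
    rw [Submodule.mem_comap, Submodule.restrictScalars_mem] at ha
    obtain ⟨b, hb, hab⟩ := (Ideal.mem_map_iff_of_surjective _ hbij.2).1 ha
    exact (hbij.1 hab) ▸ hb
  · intro z
    obtain ⟨w, rfl⟩ := Submodule.Quotient.mk_surjective _ z
    obtain ⟨a, rfl⟩ := hbij.2 w
    exact ⟨Submodule.Quotient.mk a, rfl⟩

theorem ram_eq_one_of_etale (W : Y.Opens) [Etale (f ∣_ W)] {x : X} (hx : f x ∈ W) : ram f x = 1 := by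
  rw [ram_eq_fibreLen]
  let x' : (f ⁻¹ᵁ W : Scheme.{u}) := ⟨x, hx⟩
  have h1 := MorLib.WT.map_maximalIdeal_stalkMap ((f ∣_ W) ≫ W.ι) x'
  have hw : (f ⁻¹ᵁ W).ι ≫ f = (f ∣_ W) ≫ W.ι := (morphismRestrict_ι f W).symm
  have h2 : MorLib.WT.fibreIdeal ((f ⁻¹ᵁ W).ι ≫ f) x' = IsLocalRing.maximalIdeal _ := by
    rw [hw]; exact h1
  rw [MorLib.WT.fibreIdeal_comp] at h2
  have hbij := ConcreteCategory.bijective_of_isIso ((f ⁻¹ᵁ W).ι.stalkMap x')
  have h3 : MorLib.WT.fibreIdeal f x = IsLocalRing.maximalIdeal (X.presheaf.stalk x) := by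
    have h4 := congrArg (Ideal.comap ((f ⁻¹ᵁ W).ι.stalkMap x').hom) h2
    rw [Ideal.comap_map_of_bijective _ hbij] at h4
    exact h4.trans (IsLocalRing.maximalIdeal_comap ((f ⁻¹ᵁ W).ι.stalkMap x').hom)
  have h5 : fibreLen f x = Module.length (X.presheaf.stalk x)
      (X.presheaf.stalk x ⧸ IsLocalRing.maximalIdeal (X.presheaf.stalk x)) :=
    congrArg (fun I : Ideal (X.presheaf.stalk x) => Module.length (X.presheaf.stalk x) (X.presheaf.stalk x ⧸ I)) h3
  rw [h5, Module.length_eq_one_iff.2 (isSimpleModule_iff_isCoatom.2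
    (Ideal.isMaximal_def.1 (IsLocalRing.maximalIdeal.isMaximal _))), ENat.toNat_one]

variable (k : Type u) [Field k]

/-- Over an algebraically closed field closed points are rational. -/
theorem bijective_resMap [IsAlgClosed k] [X.Over (Spec (CommRingCat.of k))]
    [IsProper (X ↘ Spec (CommRingCat.of k))] {x : X} (hx : IsClosed ({x} : Set X)) :
    Function.Bijective (algebraMap k (X.residueField x)) := by
  haveI : Module.Finite k (X.residueField x) :=
    NodeFam.finite_residueField_of_isClosed (X ↘ Spec (CommRingCat.of k)) hx fun _ => rfl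
  exact IsAlgClosed.algebraMap_bijective_of_isIntegral

theorem finrank_residueField [IsAlgClosed k] [X.Over (Spec (CommRingCat.of k))]
    [IsProper (X ↘ Spec (CommRingCat.of k))] {x : X} (hx : IsClosed ({x} : Set X)) :
    Module.finrank k (X.residueField x) = 1 := by
  rw [← (LinearEquiv.ofBijective (Algebra.linearMap k (X.residueField x)) (bijective_resMap k hx)).finrank_eq,
    Module.finrank_self]

/-- A curve proper over a field is projective. -/
theorem exists_embedding [X.Over (Spec (CommRingCat.of k))] [IsProper (X ↘ Spec (CommRingCat.of k))] [IsIntegral X]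
    (hdim : topologicalKrullDim X = 1) :
    ∃ (N : ℕ) (i : X ⟶ CohB1.ProjSpace N k), IsClosedImmersion i ∧
      i ≫ CohB1.ProjSpace.toSpec N k = X ↘ Spec (CommRingCat.of k) := by
  refine (S1627.result k X hdim).resolve_left fun haff => ?_
  haveI := haff
  haveI : IsAffineHom (X ↘ Spec (CommRingCat.of k)) := isAffineHom_of_isAffine _
  haveI : IsFinite (X ↘ Spec (CommRingCat.of k)) := IsFinite.iff_isProper_and_isAffineHom.2 ⟨inferInstance, inferInstance⟩
  haveI : JacobsonSpace X := LocallyOfFiniteType.jacobsonSpace (X ↘ Spec (CommRingCat.of k))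
  haveI : Finite X := by
    have h := Scheme.Hom.finite_preimage_singleton (X ↘ Spec (CommRingCat.of k))
      (IsLocalRing.closedPoint k)
    refine Set.finite_univ_iff.1 (h.subset fun z _ => ?_)
    haveI : Subsingleton ↥(Spec (CommRingCat.of k)) := inferInstanceAs (Subsingleton (PrimeSpectrum k))
    exact Subsingleton.elim ((X ↘ Spec (CommRingCat.of k)) z) _
  exact CurveEmbed.genericPoint_not_closed hdim (isClosed_discrete _)

variable [IsIntegral X] [IsIntegral Y]

theorem finrank_ff_eq_residueDegree (e : f (genericPoint X) = genericPoint Y) :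
    (letI := ((Y.presheaf.stalkSpecializes (specializes_of_eq e) ≫ f.stalkMap (genericPoint X)).hom).toAlgebra
     Module.finrank Y.functionField X.functionField) = f.residueDegree (genericPoint X) := by
  letI aKL := ((Y.presheaf.stalkSpecializes (specializes_of_eq e) ≫ f.stalkMap (genericPoint X)).hom).toAlgebra
  letI := (f.residueFieldMap (genericPoint X)).hom.toAlgebra
  have hFX : IsField (X.presheaf.stalk (genericPoint X)) := CurveBundle.isField_stalk_generic
  have hFY : IsField (Y.presheaf.stalk (f (genericPoint X))) := by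
    rw [e]; exact Field.toIsField Y.functionField
  have hrY : Function.Bijective (IsLocalRing.residue (Y.presheaf.stalk (f (genericPoint X)))) :=
    ⟨(RingHom.injective_iff_ker_eq_bot _).2 (by
      rw [IsLocalRing.ker_residue]; exact IsLocalRing.isField_iff_maximalIdeal_eq.1 hFY),
      IsLocalRing.residue_surjective⟩
  have hrX : Function.Bijective (IsLocalRing.residue (X.presheaf.stalk (genericPoint X))) :=
    ⟨(RingHom.injective_iff_ker_eq_bot _).2 (by
      rw [IsLocalRing.ker_residue]; exact IsLocalRing.isField_iff_maximalIdeal_eq.1 hFX),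
      IsLocalRing.residue_surjective⟩
  haveI : IsIso (Y.presheaf.stalkSpecializes (specializes_of_eq e)) := by
    have h : ∀ (a b : Y) (hab : a = b), IsIso (Y.presheaf.stalkSpecializes (specializes_of_eq hab)) := by
      rintro a b rfl
      rw [TopCat.Presheaf.stalkSpecializes_refl]
      infer_instance
    exact h _ _ e
  let eY := (asIso (Y.presheaf.stalkSpecializes (specializes_of_eq e))).commRingCatIsoToRingEquiv
  show _ = Module.finrank (Y.residueField (f (genericPoint X))) (X.residueField (genericPoint X))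
  refine Algebra.finrank_eq_of_equiv_equiv (eY.trans (RingEquiv.ofBijective _ hrY))
    (RingEquiv.ofBijective _ hrX) ?_
  ext a
  exact CurveHurwitz18.residueFieldMap_residue f (genericPoint X) _

variable [X.Over (Spec (CommRingCat.of k))] [IsProper (X ↘ Spec (CommRingCat.of k))]
  [Y.Over (Spec (CommRingCat.of k))] [IsProper (Y ↘ Spec (CommRingCat.of k))] [IsFinite f] [Flat f]

include k in
theorem one_le_ram (hdX : topologicalKrullDim X = 1) (hdY : topologicalKrullDim Y = 1)
    (e : f (genericPoint X) = genericPoint Y) {x : X} (hx : IsClosed ({x} : Set X)) : 1 ≤ ram f x := by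
  haveI := CurveCohLib.isNoetherian_of_proper (k := k) (X := X)
  rw [ram_eq_fibreLen]
  have hmax : FibDim.FibMax f x := fun z hz hfz => by
    by_contra hne
    have hzc : ¬ IsClosed ({z} : Set X) := fun hc => hne (hc.closure_eq.le hz.mem_closure).symm
    obtain rfl := CurveCohLib.eq_genericPoint_of_not_isClosed hdX hzc
    exact hne (CurveTrace.eq_generic_of_map_eq k hdX hdY (hfz.symm.trans e)).symm
  refine Nat.one_le_iff_ne_zero.2 fun h => ?_
  rcases ENat.toNat_eq_zero.1 h with h | h
  · rw [fibreLen, Module.length_eq_zero_iff, Submodule.Quotient.subsingleton_iff] at h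
    have hle : (IsLocalRing.maximalIdeal (Y.presheaf.stalk (f x))).map (f.stalkMap x).hom ≤
        IsLocalRing.maximalIdeal _ :=
      Ideal.map_le_iff_le_comap.2 (IsLocalRing.maximalIdeal_comap (f.stalkMap x).hom).ge
    exact (IsLocalRing.maximalIdeal.isMaximal _).ne_top (top_le_iff.1 (h ▸ hle))
  · exact H23.FlatShift.fibreLen_ne_top f hmax h

include k in
theorem sum_ram [IsAlgClosed k] (hf : f ≫ (Y ↘ Spec (CommRingCat.of k)) = X ↘ Spec (CommRingCat.of k))
    (hdX : topologicalKrullDim X = 1) (hdY : topologicalKrullDim Y = 1)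
    (e : f (genericPoint X) = genericPoint Y) {y : Y} (hy : IsClosed ({y} : Set Y)) :
    ∃ F : Finset X, (∀ x, x ∈ F ↔ f x = y) ∧ (∀ x ∈ F, IsClosed ({x} : Set X)) ∧
      ∑ x ∈ F, ram f x = f.residueDegree (genericPoint X) := by
  classical
  haveI := CurveCohLib.isNoetherian_of_proper (k := k) (X := X)
  haveI := CurveCohLib.isNoetherian_of_proper (k := k) (X := Y)
  haveI : LocallyOfFinitePresentation (f ≫ (Y ↘ Spec (CommRingCat.of k))) := by rw [hf]; infer_instance
  haveI : LocallyOfFinitePresentation f :=
    AlgSpPts.locallyOfFinitePresentation_of_comp f (Y ↘ Spec (CommRingCat.of k))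
  obtain ⟨hfin, hsum⟩ := sum_finrank f y
  have hcl : ∀ x : X, f x = y → IsClosed ({x} : Set X) := fun x hx => by
    by_contra hxc
    obtain rfl := CurveCohLib.eq_genericPoint_of_not_isClosed hdX hxc
    exact CurveEmbed.genericPoint_not_closed hdY (e ▸ hx ▸ hy)
  refine ⟨hfin.toFinset, fun x => hfin.mem_toFinset, fun x hx => hcl x (hfin.mem_toFinset.1 hx), ?_⟩
  have hloc : f.finrank y = f.finrank (genericPoint Y) :=
    f.isLocallyConstant_finrank.apply_eq_of_preconnectedSpace y (genericPoint Y)
  have hgen : f.finrank (genericPoint Y) = f.residueDegree (genericPoint X) := by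
    rw [CurveHurwitz.residueDegree_eq k hdX hdY e]
    obtain ⟨U, hU, hy, ⟨l⟩⟩ := H23.CoverPush.crit_of_isFinLocFreeOfRank_push f
      (CurveBC.isFinLocFreeOfRank_push f) (genericPoint Y)
    letI := H23.CoverPush.alg f U
    haveI : Module.Free Γ(Y, U) Γ(X, f ⁻¹ᵁ U) := Module.Free.of_equiv l.symm
    haveI : Module.Finite Γ(Y, U) Γ(X, f ⁻¹ᵁ U) := Module.Finite.equiv l.symm
    haveI : Nontrivial Γ(Y, U) := (Y.presheaf.germ U (genericPoint Y) hy).hom.domain_nontrivial
    rw [H23.CoverPush.finrank_eq f hU hy, Module.rankAtStalk_eq_finrank_of_free, Pi.natCast_apply, l.finrank_eq,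
      Module.finrank_finsupp_self, Fintype.card_ulift, Fintype.card_fin]
    rfl
  rw [← hgen, ← hloc, ← hsum, ← finsum_mem_coe_finset, hfin.coe_toFinset]
  refine finsum_mem_congr rfl fun x hx => ?_
  have hxc := hcl x hx
  have hd : f.residueDegree x = 1 := by
    obtain ⟨h1, -, h3⟩ := CurveHurwitz18.finrank_residueField f k hf hxc
    rw [finrank_residueField k hxc, finrank_residueField k (x := f x) ?_, one_mul,
      CurveHurwitz18.resDeg_eq] at h1
    · exact h1.symm
    · exact (show IsClosed ({f x} : Set Y) from (show f x = y from hx) ▸ hy)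
  rw [hd, one_mul, ram_eq_fibreLen]

end Groth.Agent.CurveTwoBranch
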